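import Cfsg.Agent.H817.DPi.Def
import Cfsg.Agent.H380.RV.TrLin
import Cfsg.Agent.H553.RV.LinE
import Cfsg.Agent.KFacts.Unit.OutHom

/-!
# S4247, row PSU: definitions (helper715)

`Up π P H` : `P` is the image of `H ∩ SU_n(q)` in `PSU_n(q)`, `H` a Hall `π`-subgroup of `GU_n(q)`.

`Nd W` : `W` is a nondegenerate subspace.  `Sv A τ W` : `W` is invariant under the semilinear map `v ↦ A (τ v)`.

`Fr q H t a z` : `z 0, .., z (a-1)` is a frame of elements of order `t` of `H`, `H` permutes the supports `[V, z i]`.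
`Cz z` : the centraliser of the frame.  `tU q d` : `|(-q)^d - 1|`.

`EX π` : the statement EXCL.  `NilGU π` : the statement `N'`.
-/

set_option autoImplicit false

namespace Cfsg.Agent.H715.DPU

open Subgroup Cfsg Matrix Cfsg.Agent.H988.CPi Cfsg.Agent.H571.RV Cfsg.Agent.H817.DPi Cfsg.Agent.H380.RV
  Cfsg.Agent.H553.RV Cfsg.Agent.H167.OP Cfsg.Agent.H170.HL Cfsg.Agent.H556.HallRowAbs
open Cfsg.Agent.ClassicalGeometry.PSUAutBasic (pr)
open Cfsg.Agent.ClassicalGeometry.PSUAutCount (gm toAut)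

universe u

variable {F : Type*} [Field F] {q n : ℕ}

/-- `P` is the image of `H ∩ SU` -/
structure Up (π : Set ℕ) (P : Subgroup (PSU n F q)) (H : Subgroup (GU n F q)) : Prop where
  hall : IsPiHall π H
  mem : ∀ x : PSU n F q, x ∈ P ↔ ∃ g : SU n F q, jU n F q g ∈ H ∧ pr n F q g = x

/-- nondegenerate subspaces -/
def Nd (q : ℕ) (W : Submodule F (Fin n → F)) : Prop := ∀ x ∈ W, (∀ y ∈ W, hermForm n F q x y = 0) → x = 0

/-- invariance under `v ↦ A (τ v)` -/
def Sv (A : GU n F q) (τ : F ≃+* F) (W : Submodule F (Fin n → F)) : Prop :=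
  ∀ w ∈ W, (gm A *ᵥ fun i => τ (w i)) ∈ W

/-- the order of `-q` modulo `t` -/
noncomputable abbrev eU (q : ℕ) : ℕ → ℕ := fun t => orderOf (-(q : ZMod t))

/-- `|(-q)^d - 1|` -/
def tU (q d : ℕ) : ℕ := if Even d then q ^ d - 1 else q ^ d + 1

/-- the natural representation of `GU_n(q)` -/
noncomputable abbrev rU (n : ℕ) (F : Type*) [Field F] (q : ℕ) : Representation F (GU n F q) (Fin n → F) := rep (incU n F q)

/-- frames permuted by `H` -/
structure Fr (q : ℕ) (H : Subgroup (GU n F q)) (t a : ℕ) (z : Fin a → GU n F q) : Prop where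
  ht : t.Prime
  odd : Odd t
  ne : (t : F) ≠ 0
  dvd : t ∣ Nat.card H
  fm : Fm (rU n F q) (eU q) H t a z
  st : ∀ h ∈ H, ∀ i, ∃ j, (Rg (rU n F q) (z i)).map (rU n F q h) = Rg (rU n F q) (z j)

/-- the centraliser of the frame -/
def Cz {a : ℕ} (z : Fin a → GU n F q) : Subgroup (GU n F q) := centralizer (Set.range z)

/-- EXCL -/
def EX (π : Set ℕ) : Prop :=
  ∀ (X : Type) [Group X] [Finite X] [IsSimpleGroup X], ¬ IsMulCommutative X → 2 ∉ π → ∀ p : ℕ, p.Prime → p ∉ π →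
    IsLieTypeChar p X → Cls π X →
      (∀ P : Subgroup X, IsPiHall π P → Group.IsNilpotent P) ∨
        Nonempty (X ≃* Matrix.ProjectiveSpecialLinearGroup (Fin 3) (ZMod 2)) ∨
        Nonempty (X ≃* Matrix.ProjectiveSpecialLinearGroup (Fin 5) (ZMod 2))

/-- `N'` -/
def NilGU (π : Set ℕ) : Prop :=
  ∀ (F : Type) [Field F] [Fintype F] (m q : ℕ), Fintype.card F = q ^ 2 → 2 ∉ π →
    (∀ r ∈ π, r.Prime → (r : F) ≠ 0) →
    (∀ X : Subgroup (GU m F q), PiN π (Nat.card X) → (∀ g ∈ X, (g.1.1 : Matrix (Fin m) (Fin m) F).det = 1) →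
      Group.IsNilpotent X) →
    ∀ X : Subgroup (GU m F q), PiN π (Nat.card X) → Group.IsNilpotent X

end Cfsg.Agent.H715.DPU
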