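import Cfsg.Agent.H715.DPU.Def
import Cfsg.Agent.H933.MonBound

/-!
# S4247, row PSU: the supports of a frame (helper715)
-/

set_option autoImplicit false

namespace Cfsg.Agent.H715.DPU

open Subgroup Cfsg Matrix Module Cfsg.Agent.H988.CPi Cfsg.Agent.H571.RV Cfsg.Agent.H817.DPi Cfsg.Agent.H380.RV
  Cfsg.Agent.H553.RV Cfsg.Agent.LieClassical.HermBasic Cfsg.Agent.H170.HL Cfsg.Agent.H556.HallRowAbs Cfsg.Agent.H167.OP
open Cfsg.Agent.ClassicalGeometry.PSUAutCount (gm toAut gm_mul gm_inj herm_gm)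

variable {F : Type*} [Field F] {n q a t : ℕ} {H : Subgroup (GU n F q)} {z : Fin a → GU n F q}

theorem rU_apply (g : GU n F q) (v : Fin n → F) : rU n F q g v = gm g *ᵥ v := rfl

theorem mem_Rg' {g : GU n F q} {w : Fin n → F} : w ∈ Rg (rU n F q) g ↔ ∃ v, gm g *ᵥ v - v = w := mem_Rg

/-- the atoms -/
noncomputable abbrev At (z : Fin a → GU n F q) (i : Fin a) : Submodule F (Fin n → F) := Rg (rU n F q) (z i)

theorem Fr.pow (hz : Fr q H t a z) (i : Fin a) : z i ^ t = 1 := (hz.fm.isZ i).1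

theorem Fr.finrank_At (hz : Fr q H t a z) (i : Fin a) : finrank F (At z i) = eU q t := (hz.fm.isZ i).2

theorem Fr.eq_zero (hz : Fr q H t a z) {i : Fin a} {w : Fin n → F} (hw : w ∈ At z i) (h : gm (z i) *ᵥ w = w) : w = 0 :=
  eq_zero_of_fix hz.ne (hz.pow i) hw h

theorem Fr.fix_of_ne (hz : Fr q H t a z) {i j : Fin a} (hij : i ≠ j) {w : Fin n → F} (hw : w ∈ At z j) :
    gm (z i) *ᵥ w = w := by
  obtain ⟨v, rfl⟩ := mem_Rg'.1 hw
  exact hz.fm.ind i j hij v

/-- a vector orthogonal to `At z i` is fixed by `z i` -/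
theorem fix_of_orth [Fintype F] (hF : Fintype.card F = q ^ 2) {g : GU n F q} {x : Fin n → F}
    (h : ∀ w ∈ Rg (rU n F q) g, hermForm n F q x w = 0) : gm g *ᵥ x = x := by
  have h1 : ∀ v : Fin n → F, hermForm n F q (gm g *ᵥ x - x) v = 0 := by
    intro v
    obtain ⟨u, hu⟩ : ∃ u : Fin n → F, gm g *ᵥ u = v :=
      ⟨gm g⁻¹ *ᵥ v, Cfsg.Agent.ClassicalGeometry.PSUAutCount.gm_mulVec_inv g v⟩
    have h2 : hermForm n F q x (gm g *ᵥ u - u) = 0 := h _ (mem_Rg'.2 ⟨u, rfl⟩)
    rw [herm_sub_left, ← hu, herm_gm]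
    rw [herm_sub_right hF, sub_eq_zero] at h2
    rw [h2, sub_self]
  have h2 := herm_nondeg hF h1
  exact sub_eq_zero.1 h2

/-- the sum of the atoms -/
noncomputable abbrev V1 (z : Fin a → GU n F q) : Submodule F (Fin n → F) := ⨆ i, At z i

theorem Fr.indep (hz : Fr q H t a z) : iSupIndep (At z) := by
  rw [iSupIndep_def]
  intro i
  rw [Submodule.disjoint_def]
  intro x hx hx'
  apply hz.eq_zero hx
  have h1 : (⨆ j, ⨆ (_ : j ≠ i), At z j) ≤ LinearMap.ker (rU n F q (z i) - 1) := by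
    refine iSup_le fun j => iSup_le fun hj => ?_
    intro w hw
    rw [LinearMap.mem_ker]
    show gm (z i) *ᵥ w - w = 0
    rw [hz.fix_of_ne (Ne.symm hj) hw, sub_self]
  have h2 := h1 hx'
  rw [LinearMap.mem_ker] at h2
  exact sub_eq_zero.1 h2

theorem Fr.finrank_eq (hz : Fr q H t a z) (h : V1 z = ⊤) : n = a * eU q t := by
  have h1 := Cfsg.Agent.H933.finrank_eq_sum_of_indep (At z) hz.indep h
  rw [finrank_fin_fun, Finset.sum_congr rfl (fun i _ => hz.finrank_At i), Finset.sum_const, Finset.card_univ,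
    Fintype.card_fin, smul_eq_mul] at h1
  exact h1

theorem Fr.nd_At [Fintype F] (hF : Fintype.card F = q ^ 2) (hz : Fr q H t a z) (i : Fin a) : Nd q (At z i) :=
  fun _ hx h => hz.eq_zero hx (fix_of_orth hF h)

theorem Fr.nd_V1 [Fintype F] (hF : Fintype.card F = q ^ 2) (hz : Fr q H t a z) : Nd q (V1 z) := by
  classical
  intro x hx h
  have hfix : ∀ i, gm (z i) *ᵥ x = x := fun i => fix_of_orth hF fun w hw => h w (Submodule.mem_iSup_of_mem i hw)
  obtain ⟨f, hf, rfl⟩ := (Submodule.mem_iSup_iff_exists_finsupp _ _).1 hx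
  rw [Finsupp.sum] at hfix ⊢
  refine Finset.sum_eq_zero fun k hk => ?_
  apply hz.eq_zero (hf k)
  have h1 := hfix k
  have h2 : gm (z k) *ᵥ (∑ i ∈ f.support, f i) - ∑ i ∈ f.support, f i = gm (z k) *ᵥ f k - f k := by
    rw [Matrix.mulVec_sum, ← Finset.sum_sub_distrib]
    refine Finset.sum_eq_single_of_mem k hk fun i _ hik => ?_
    rw [hz.fix_of_ne (Ne.symm hik) (hf i), sub_self]
  rw [h1, sub_self] at h2
  exact sub_eq_zero.1 h2.symm

theorem Fr.d_pos [Fintype F] (hF : Fintype.card F = q ^ 2) (hz : Fr q H t a z) : 1 ≤ eU q t :=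
  (linDat_GU (F := F) hF n).row.epos t hz.ht hz.ne

theorem Fr.d_dvd [Fintype F] (hF : Fintype.card F = q ^ 2) (hz : Fr q H t a z) : eU q t ∣ t - 1 :=
  (linDat_GU (F := F) hF n).row.edvd t hz.ht hz.ne

theorem Fr.At_ne_bot [Fintype F] (hF : Fintype.card F = q ^ 2) (hz : Fr q H t a z) (i : Fin a) : At z i ≠ ⊥ := by
  intro h
  have h1 := hz.finrank_At i
  rw [h, finrank_bot] at h1
  have := hz.d_pos hF
  omega

theorem Fr.a_pos [Fintype F] (hF : Fintype.card F = q ^ 2) (hz : Fr q H t a z) : 1 ≤ a := by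
  by_contra hcon
  have ha : a = 0 := by omega
  subst ha
  have hfin : Finite (GU n F q) := LieClassical.GUOrder.finite_GU n
  have h1 := hz.fm.max ⊤ (fun i => i.elim0)
  rw [finrank_top, finrank_fin_fun] at h1
  have := Fact.mk hz.ht
  obtain ⟨y, hy⟩ := exists_prime_orderOf_dvd_card' t (hz.dvd.trans H.card_subgroup_dvd_card)
  have h2 : eU q t ≤ rk (rU n F q) y := by
    refine le_rk_of_ne (linDat_GU (F := F) hF n).row hz.ht hz.odd hz.ne (y := y) ?_ ?_
    · rw [← hy, pow_orderOf_eq_one]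
    · rintro rfl
      rw [orderOf_one] at hy
      exact hz.ht.one_lt.ne hy
  have h3 : rk (rU n F q) y ≤ n := by
    have h4 := Submodule.finrank_le (Rg (rU n F q) y)
    rw [finrank_fin_fun] at h4
    exact h4
  omega

theorem Fr.V1_ne_bot [Fintype F] (hF : Fintype.card F = q ^ 2) (hz : Fr q H t a z) : V1 z ≠ ⊥ := by
  intro h
  have h1 : At z ⟨0, hz.a_pos hF⟩ ≤ V1 z := le_iSup (At z) _
  rw [h, le_bot_iff] at h1
  exact hz.At_ne_bot hF _ h1

theorem Fr.H_V1 (hz : Fr q H t a z) {h : GU n F q} (hh : h ∈ H) : ∀ w ∈ V1 z, gm h *ᵥ w ∈ V1 z := by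
  intro w hw
  have h1 : V1 z ≤ (V1 z).comap (rU n F q h) := by
    refine iSup_le fun i => ?_
    intro w hw
    rw [Submodule.mem_comap]
    obtain ⟨j, hj⟩ := hz.st h hh i
    have h2 : rU n F q h w ∈ At z j := by
      rw [At, ← hj]
      exact ⟨w, hw, rfl⟩
    exact Submodule.mem_iSup_of_mem j h2
  exact h1 hw

theorem Sv.iSup {A : GU n F q} {τ : F ≃+* F} (h : ∀ i, Sv A τ (At z i)) : Sv A τ (V1 z) := by
  intro w hw
  refine Submodule.iSup_induction (At z) (motive := fun w => (gm A *ᵥ fun i => τ (w i)) ∈ V1 z) hw ?_ ?_ ?_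
  · intro i x hx
    exact Submodule.mem_iSup_of_mem i (h i x hx)
  · have h1 : (fun i => τ ((0 : Fin n → F) i)) = 0 := by
      funext i
      exact map_zero τ
    rw [h1, mulVec_zero]
    exact Submodule.zero_mem _
  · intro x y hx hy
    have h1 : (fun i => τ ((x + y) i)) = (fun i => τ (x i)) + fun i => τ (y i) := by
      funext i
      exact map_add τ _ _
    rw [h1, mulVec_add]
    exact Submodule.add_mem _ hx hy

theorem Fr.At_ne_top (hz : Fr q H t a z) (hn : n = a * eU q t) (ha : 2 ≤ a) (hn0 : 1 ≤ n) (i : Fin a) : At z i ≠ ⊤ := by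
  intro h
  have h1 := hz.finrank_At i
  rw [h, finrank_top, finrank_fin_fun] at h1
  have h2 : 1 ≤ eU q t := by
    by_contra h3
    have h4 : eU q t = 0 := by omega
    rw [h4, mul_zero] at hn
    omega
  nlinarith

end Cfsg.Agent.H715.DPU
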