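import Mathlib

/-!
# S4247, row PSU: numbers in dimension three (helper715)
-/

set_option autoImplicit false

namespace Cfsg.Agent.H715.DPU

theorem two_pow_gt : ∀ f : ℕ, 4 ≤ f → 3 * f + 4 ≤ 2 ^ f := by
  intro f hf
  induction f, hf using Nat.le_induction with
  | base => norm_num
  | succ f hf ih =>
    rw [pow_succ]
    omega

theorem kappa_le {f κ : ℕ} (hf : 1 ≤ f) (hκ : κ ∣ 2 * f) (hodd : Odd κ) : κ ∣ f ∧ κ ≤ f := by
  have h1 : κ ∣ f := by
    refine Nat.Coprime.dvd_of_dvd_mul_left ?_ hκ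
    rw [Nat.coprime_comm, Nat.coprime_two_left]
    exact hodd
  exact ⟨h1, Nat.le_of_dvd hf h1⟩

theorem num31 {p f κ q : ℕ} (hp : p.Prime) (hf : 1 ≤ f) (hq : q = p ^ f) (hκ : κ ∣ 2 * f) (hodd : Odd κ)
    (h : q + 1 ≤ 3 * κ) : q = 8 ∨ q = 2 := by
  obtain ⟨h1, h2⟩ := kappa_le hf hκ hodd
  have hpq : 2 ^ f ≤ q := by rw [hq]; exact Nat.pow_le_pow_left hp.two_le f
  rcases Nat.lt_or_ge f 4 with h4 | h4
  · obtain ⟨k, rfl⟩ := hodd
    interval_cases f
    · rw [pow_one] at hq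
      have := hp.two_le
      omega
    · have h5 : k = 0 := by omega
      omega
    · have h6 : q = 8 := by omega
      exact Or.inl h6
  · have := two_pow_gt f h4
    omega

theorem num33 {p f κ q : ℕ} (hp : p.Prime) (hf : 1 ≤ f) (hq : q = p ^ f) (hκ : κ ∣ 2 * f) (hodd : Odd κ)
    (h : (q ^ 3 + 1) * (q + 1) ≤ κ * ((q + 1) ^ 3 * 3)) : q = 2 ∨ q = 3 ∨ q = 4 ∨ q = 8 := by
  obtain ⟨h1, h2⟩ := kappa_le hf hκ hodd
  have hq1 : 2 ≤ q := by
    rw [hq]
    calc 2 ≤ p := hp.two_le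
      _ = p ^ 1 := (pow_one p).symm
      _ ≤ p ^ f := Nat.pow_le_pow_right hp.pos hf
  have h3 : q * q + 1 ≤ q + 3 * κ * (q + 1) := by
    have h4 : (q + 1) ^ 2 * (q * q + 1) ≤ (q + 1) ^ 2 * (q + 3 * κ * (q + 1)) := by
      have h5 : (q + 1) ^ 2 * (q * q + 1) = (q ^ 3 + 1) * (q + 1) + (q + 1) ^ 2 * q := by ring
      have h6 : (q + 1) ^ 2 * (q + 3 * κ * (q + 1)) = κ * ((q + 1) ^ 3 * 3) + (q + 1) ^ 2 * q := by ring
      omega
    exact Nat.le_of_mul_le_mul_left h4 (by positivity)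
  have hpq : 2 ^ f ≤ q := by rw [hq]; exact Nat.pow_le_pow_left hp.two_le f
  rcases Nat.lt_or_ge f 4 with h4 | h4
  · have h7 : q ≤ 10 := by
      by_contra hcon
      have h8 : κ ≤ 3 := by omega
      nlinarith
    interval_cases f
    · have h9 : κ = 1 := by obtain ⟨k, rfl⟩ := hodd; omega
      subst h9
      interval_cases q <;> omega
    · have h9 : κ = 1 := by obtain ⟨k, rfl⟩ := hodd; omega
      subst h9
      interval_cases q <;> omega
    · have h10 : p = 2 := by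
        by_contra hne
        have h11 : 3 ≤ p := by have := hp.two_le; omega
        have h12 : 3 ^ 3 ≤ p ^ 3 := Nat.pow_le_pow_left h11 3
        omega
      rw [h10] at hq
      omega
  · exfalso
    have h5 := two_pow_gt f h4
    have h6 : 3 * f + 4 ≤ q := by omega
    have h7 : 3 * κ * (q + 1) ≤ 3 * f * (q + 1) := Nat.mul_le_mul_right _ (Nat.mul_le_mul_left _ h2)
    nlinarith

/-- `-q` modulo `t`, `q = 2` -/
theorem d_two {t : ℕ} (ht : t.Prime) (hodd : Odd t) (h : orderOf (-((2 : ℕ) : ZMod t)) ≠ 1)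
    (h0 : 1 ≤ orderOf (-((2 : ℕ) : ZMod t))) : 4 ≤ orderOf (-((2 : ℕ) : ZMod t)) := by
  by_contra hcon
  have hne : t ≠ 3 := by
    rintro rfl
    apply h
    rw [orderOf_eq_one_iff]
    decide
  have hne2 : t ≠ 2 := by
    rintro rfl
    exact absurd hodd (by decide)
  have h1 := pow_orderOf_eq_one (-((2 : ℕ) : ZMod t))
  have h2 : orderOf (-((2 : ℕ) : ZMod t)) = 2 ∨ orderOf (-((2 : ℕ) : ZMod t)) = 3 := by omega
  rcases h2 with h2 | h2
  · rw [h2] at h1
    have h3 : ((3 : ℕ) : ZMod t) = 0 := by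
      push_cast at h1 ⊢
      linear_combination h1
    rw [ZMod.natCast_eq_zero_iff, Nat.prime_dvd_prime_iff_eq ht Nat.prime_three] at h3
    exact hne h3
  · rw [h2] at h1
    have h3 : ((9 : ℕ) : ZMod t) = 0 := by
      push_cast at h1 ⊢
      linear_combination -h1
    rw [ZMod.natCast_eq_zero_iff] at h3
    have h4 : t ∣ 3 ^ 2 := h3
    exact hne ((Nat.prime_dvd_prime_iff_eq ht Nat.prime_three).1 (ht.dvd_of_dvd_pow h4))

theorem dvd_succ_of_one {q t : ℕ} (h : orderOf (-((q : ℕ) : ZMod t)) = 1) : t ∣ q + 1 := by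
  rw [orderOf_eq_one_iff] at h
  rw [← ZMod.natCast_eq_zero_iff]
  push_cast
  linear_combination -h

end Cfsg.Agent.H715.DPU
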