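import Cfsg.Agent.H715.DPU.Count
import Cfsg.Agent.H715.DPU.Geo
import Cfsg.Agent.H715.DPU.Num
import Cfsg.Agent.H125.DPi.RelCz
import Cfsg.Agent.H735.DPU.Pow
import Cfsg.Agent.H491.DP.NumU
import Cfsg.Agent.H77.Final
import Cfsg.Agent.S2148
import Cfsg.Agent.S0280

/-!
# S4247, row PSU: assembly (helper715)
-/

set_option autoImplicit false

namespace Cfsg.Agent.H715.DPU

open Subgroup Cfsg Matrix Module Cfsg.Agent.H988.CPi Cfsg.Agent.H571.RV Cfsg.Agent.H817.DPi Cfsg.Agent.H380.RV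
  Cfsg.Agent.H553.RV Cfsg.Agent.LieClassical.HermBasic
open Cfsg.Agent.ClassicalGeometry.PSUAutBasic (pr pr_surjective)
open Cfsg.Agent.ClassicalGeometry.PSUAutCount (gm toAut gm_mul gm_inj herm_gm)

/-- `H` nilpotent implies `P` nilpotent -/
theorem Up.nil {F : Type*} [Field F] {n q : ℕ} {π : Set ℕ} {P : Subgroup (PSU n F q)} {H : Subgroup (GU n F q)}
    (hU : Up π P H) (h : Group.IsNilpotent H) : Group.IsNilpotent P := by
  have h1 : P = (H.comap (jU n F q)).map (pr n F q) := by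
    ext x
    rw [hU.mem]
    constructor
    · rintro ⟨g, hg, rfl⟩
      exact ⟨g, hg, rfl⟩
    · rintro ⟨g, hg, rfl⟩
      exact ⟨g, hg, rfl⟩
  have hj : Function.Injective (jU n F q) := by
    intro a b h
    exact Subtype.ext (Subtype.ext (congrArg (fun x : GU n F q => x.1.1) h))
  let φ : H.comap (jU n F q) →* H := (jU n F q).subgroupComap H
  have hφ : Function.Injective φ := by
    intro a b hab
    apply Subtype.ext
    apply hj
    exact congrArg (fun x : H => (x : GU n F q)) hab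
  have h2 : Group.IsNilpotent (H.comap (jU n F q)) := 
    _root_.isNilpotent_of_ker_le_center φ (by rw [(MonoidHom.ker_eq_bot_iff φ).2 hφ]; exact bot_le)
  rw [h1]
  exact Group.nilpotent_of_surjective ((pr n F q).subgroupMap (H.comap (jU n F q)))
    ((pr n F q).subgroupMap_surjective _)

theorem nil_of_le {Y : Type*} [Group Y] {H C : Subgroup Y} (hC : ∀ x ∈ C, ∀ y ∈ C, x * y = y * x)
    (h : C.relIndex H = 1) : Group.IsNilpotent H := by
  have h1 : H ≤ C := Subgroup.relIndex_eq_one.1 h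
  have hcomm : ∀ x y : H, x * y = y * x := fun x y => Subtype.ext (hC x (h1 x.2) y (h1 y.2))
  letI : CommGroup H := { (inferInstance : Group H) with mul_comm := hcomm }
  exact CommGroup.isNilpotent

theorem nil_of_pow {Y : Type*} [Group Y] [Finite Y] {H : Subgroup Y} {r : ℕ} (hr : r.Prime)
    (h : ∀ s : ℕ, s.Prime → s ∣ Nat.card H → s = r) : Group.IsNilpotent H := by
  have := Fact.mk hr
  have h1 : IsPGroup r H := by
    rw [IsPGroup.iff_card]
    refine ⟨_, Nat.eq_prime_pow_of_unique_prime_dvd Nat.card_pos.ne' fun {s} hs hd => h s hs hd⟩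
  exact h1.isNilpotent

/-- the order of `H` -/
theorem card_dvd {Y : Type*} [Group Y] [Finite Y] (H C : Subgroup Y) : Nat.card H ∣ Nat.card C * C.relIndex H := by
  have h1 := (C.subgroupOf H).card_mul_index
  have h2 : Nat.card (C.subgroupOf H) ∣ Nat.card C := by
    have h3 : Nat.card (C.subgroupOf H) = Nat.card (C ⊓ H : Subgroup Y) := by
      rw [← Subgroup.card_map_of_injective H.subtype_injective, Subgroup.subgroupOf_map_subtype]
    rw [h3]
    exact Subgroup.card_dvd_of_le inf_le_left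
  rw [← h1]
  exact mul_dvd_mul_right h2 _

/-- the data of the assembly -/
structure Dt' (F : Type) [Field F] [Fintype F] (n q a t : ℕ) (π : Set ℕ) (P : Subgroup (PSU n F q))
    (K B : Subgroup (MulAut (PSU n F q))) (H : Subgroup (GU n F q)) (z : Fin a → GU n F q) : Prop where
  hF : Fintype.card F = q ^ 2
  hn : 3 ≤ n
  h32 : ¬ (n = 3 ∧ q = 2)
  hpn : ∀ r ∈ π, r.Prime → (r : F) ≠ 0
  hc : Cfg π P K B
  hU : Up π P H
  hz : Fr q H t a z
  h5 : n = 3 → eU q t = 1 → 5 ≤ t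
  hK : ∀ (A : GU n F q) (τ : F ≃+* F), toAut A τ ∈ K →
    (∀ i, Sv A τ (At z i)) ∧ (τ = 1 → A ∈ Cz z) ∧ ((∀ x, τ x = x ^ q) → Even (eU q t))
  hb : ∀ W : Submodule F (Fin n → F), W ≠ ⊥ → W ≠ ⊤ → Nd q W → (∀ g ∈ H, ∀ w ∈ W, gm g *ᵥ w ∈ W) →
    (∀ (A : GU n F q) (τ : F ≃+* F), toAut A τ ∈ K → Sv A τ W) → False
  hCz : n = a * eU q t → (∀ x ∈ Cz z, ∀ y ∈ Cz z, x * y = y * x) ∧ Nat.card (Cz z) ∣ tU q (eU q t) ^ a

variable {F : Type} [Field F] [Fintype F] {n q a t : ℕ} {π : Set ℕ} {P : Subgroup (PSU n F q)}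
    {K B : Subgroup (MulAut (PSU n F q))} {H : Subgroup (GU n F q)} {z : Fin a → GU n F q}

theorem Dt'.nn (D : Dt' F n q a t π P K B H z) : ¬ Group.IsNilpotent H := fun h => D.hc.nnil (D.hU.nil h)

theorem Dt'.n_eq (D : Dt' F n q a t π P K B H z) : n = a * eU q t := by
  by_cases h : V1 z = ⊤
  · exact D.hz.finrank_eq h
  · exact absurd (D.hb (V1 z) (D.hz.V1_ne_bot D.hF) h (D.hz.nd_V1 D.hF) (fun g hg => D.hz.H_V1 hg)
      (fun A τ hA => Sv.iSup (D.hK A τ hA).1)) not_false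

theorem Dt'.odd (D : Dt' F n q a t π P K B H z) : Odd (Nat.card H) := by
  rw [← Nat.not_even_iff_odd, even_iff_two_dvd]
  exact fun h => D.hc.two (D.hU.hall.1 2 Nat.prime_two h)

/-- the permutation part -/
theorem Dt'.perm (D : Dt' F n q a t π P K B H z) :
    ∃ s k : ℕ, s.Prime ∧ s ≠ 2 ∧ (∀ r ∈ π, r.Prime → r ≤ a → r = s) ∧ (Cz z).relIndex H ∣ eU q t ^ a * s ^ k ∧
      s ^ k ∣ a.factorial ∧ (a = 1 ∨ 3 ≤ a ∧ s ∈ π ∧ s ∣ a) := by
  obtain ⟨s, k, hs, hsπ, hrel, hk, hfix⟩ := Cfsg.Agent.H125.DPi.RelCz.relIndex_Cz D.hF D.hc.two D.hpn D.hU.hall D.hz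
    (Cfsg.Agent.H735.DPU.pow_of_conj D.hF D.hz)
  have ha1 := D.hz.a_pos D.hF
  rcases Nat.eq_or_lt_of_le ha1 with h1 | h1
  · -- `a = 1`
    rw [← h1, Nat.factorial_one, Nat.dvd_one, Nat.pow_eq_one] at hk
    rcases hk with hk | hk
    · exact absurd hk hs.one_lt.ne'
    · refine ⟨3, 0, Nat.prime_three, by norm_num, ?_, ?_, ?_, Or.inl h1.symm⟩
      · intro r _ hr hra
        have := hr.two_le
        omega
      · rw [pow_zero]
        rw [hk, pow_zero] at hrel
        exact hrel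
      · rw [pow_zero]
        exact one_dvd _
  · have h2 : 1 ≤ k ∧ s ∈ π ∧ s ∣ a := by
      rcases hfix with ⟨i, hi⟩ | h2
      · exfalso
        refine D.hb (At z i) (D.hz.At_ne_bot D.hF i) (D.hz.At_ne_top D.n_eq h1 (by have := D.hn; omega) i)
          (D.hz.nd_At D.hF i) ?_ (fun A τ hA => (D.hK A τ hA).1 i)
        intro g hg w hw
        have h3 := hi g hg
        have h4 : rU n F q g w ∈ (Rg (rU n F q) (z i)).map (rU n F q g) := ⟨w, hw, rfl⟩
        rw [h3] at h4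
        exact h4
      · exact h2
    have hs2 : s ≠ 2 := by
      rintro rfl
      exact D.hc.two h2.2.1
    refine ⟨s, k, hs, hs2, hsπ, hrel, hk, Or.inr ⟨?_, h2.2⟩⟩
    have h3 := hs.two_le
    have h4 := Nat.le_of_dvd ha1 h2.2.2
    omega

theorem tU_pos {q d : ℕ} (hq : 2 ≤ q) (hd : 1 ≤ d) : 0 < tU q d := by
  rw [tU]
  split_ifs
  · have h1 : q ^ 1 ≤ q ^ d := Nat.pow_le_pow_right (by omega) hd
    rw [pow_one] at h1
    omega
  · omega

/-- the case `n ≥ 5` -/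
theorem Dt'.big (D : Dt' F n q a t π P K B H z) (h5 : 5 ≤ n) : False := by
  obtain ⟨p, f, hp, hch, hq, hf⟩ := exists_prime_pow D.hF
  have hq2 : 2 ≤ q := two_le D.hF
  obtain ⟨s, k, hs, hs2, hsπ, hrel, hk, ha⟩ := D.perm
  obtain ⟨hBt, κ, hκ, hκo, -, hle⟩ := index_le D.hF D.hn D.h32 hp hf hq D.hc D.hU (z := z) (t := t)
    (fun A τ hA => (D.hK A τ hA).2)
  obtain ⟨-, hCz⟩ := D.hCz D.n_eq
  have hd := D.hz.d_pos D.hF
  have hπt : t ∈ π := D.hU.hall.1 t D.hz.ht D.hz.dvd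
  have hfinG : Finite (GU n F q) := LieClassical.GUOrder.finite_GU n
  -- `q = 2`
  have hd2 : q = 2 → 4 ≤ eU q t := by
    intro h2
    by_cases hd1 : eU q t = 1
    · exfalso
      have h3 : t ∣ q + 1 := dvd_succ_of_one hd1
      rw [h2] at h3
      have ht3 : t = 3 := (Nat.prime_dvd_prime_iff_eq D.hz.ht Nat.prime_three).1 h3
      have hn := D.n_eq
      rw [hd1, mul_one] at hn
      have hs3 : 3 = s := hsπ 3 (ht3 ▸ hπt) Nat.prime_three (by omega)
      apply D.nn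
      refine nil_of_pow Nat.prime_three fun r hr hrd => ?_
      have h4 := (hrd.trans (card_dvd H (Cz z))).trans (mul_dvd_mul hCz hrel)
      rw [hd1, one_pow, one_mul, ← hs3] at h4
      have h5 : tU q 1 = 3 := by rw [tU, if_neg (by decide), h2, pow_one]
      rw [h5, ← pow_add] at h4
      exact (Nat.prime_dvd_prime_iff_eq hr Nat.prime_three).1 (hr.dvd_of_dvd_pow h4)
    · have hd1' : orderOf (-((2 : ℕ) : ZMod t)) ≠ 1 := by rw [← h2]; exact hd1
      have hd' : 1 ≤ orderOf (-((2 : ℕ) : ZMod t)) := by rw [← h2]; exact hd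
      have h3 := d_two D.hz.ht D.hz.odd hd1' hd'
      rw [← h2] at h3
      exact h3
  have hd3 : q = 3 → 2 ≤ eU q t := by
    intro h3
    by_contra hcon
    have hd1 : eU q t = 1 := by omega
    have h4 : t ∣ q + 1 := dvd_succ_of_one hd1
    rw [h3] at h4
    have h5 : t ∣ 2 ^ 2 := h4
    have h6 := (Nat.prime_dvd_prime_iff_eq D.hz.ht Nat.prime_two).1 (D.hz.ht.dvd_of_dvd_pow h5)
    have h7 := D.hz.odd
    rw [h6] at h7
    exact absurd h7 (by decide)
  have hnum := Cfsg.Agent.H491.DP.num_psu hp hf hq D.n_eq h5 (ha.imp id And.left) hs hs2 hk hd2 hd3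
  have hκ1 : κ ≤ 2 * f := Nat.le_of_dvd (by omega) hκ
  have hX : (B.comap MulAut.conj).index * (q + 1) ≤ 2 * f * tU q (eU q t) ^ a * (eU q t ^ a * s ^ k) := by
    refine hle.trans ?_
    rw [mul_assoc (2 * f)]
    refine Nat.mul_le_mul hκ1 (Nat.mul_le_mul (Nat.le_of_dvd (pow_pos (tU_pos hq2 hd) _) hCz) (Nat.le_of_dvd ?_ hrel))
    exact Nat.mul_pos (pow_pos hd _) (pow_pos hs.pos _)
  rcases Cfsg.Agent.H77.Final.lower D.hF h5 _ hBt with h | ⟨h2, hev, h⟩
  · have h1 : (((B.comap MulAut.conj).index * (q + 1) * (q - 1) : ℕ) : ℤ) =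
        (((B.comap MulAut.conj).index : ℕ) : ℤ) * ((q : ℤ) ^ 2 - 1) := by
      push_cast [Nat.cast_sub (show 1 ≤ q by omega)]
      ring
    rw [← h1] at h
    have h3 := Nat.mul_le_mul_right (q - 1) hX
    have h4 : (((B.comap MulAut.conj).index * (q + 1) * (q - 1) : ℕ) : ℤ) <
        Cfsg.Agent.H77.Step1.In q n := lt_of_le_of_lt (by exact_mod_cast h3) hnum.1
    exact absurd h (not_le.2 h4)
  · have hf1 : f = 1 := by
      by_contra hne
      have h3 : 2 ^ 2 ≤ p ^ f := (Nat.pow_le_pow_left hp.two_le 2).trans (Nat.pow_le_pow_right hp.pos (by omega))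
      omega
    have h3 := hnum.2 h2 hev
    subst h2
    rw [hf1, mul_one] at hX
    have h4 : 3 * (B.comap MulAut.conj).index < 2 ^ (n - 1) * (2 ^ n - 1) := by
      calc 3 * (B.comap MulAut.conj).index = (B.comap MulAut.conj).index * (2 + 1) := by ring
        _ ≤ _ := hX
        _ < _ := h3
    obtain ⟨m, rfl⟩ : ∃ m, n = m + 2 := ⟨n - 2, by omega⟩
    have h5' : ((3 * (B.comap MulAut.conj).index : ℕ) : ℤ) < ((2 ^ (m + 2 - 1) * (2 ^ (m + 2) - 1) : ℕ) : ℤ) := by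
      exact_mod_cast h4
    have h6 : ((2 ^ (m + 2 - 1) * (2 ^ (m + 2) - 1) : ℕ) : ℤ) = 2 * ((2 : ℤ) ^ (m + 2 - 2) * (4 * (2 : ℤ) ^ (m + 2 - 2) - 1)) := by
      rw [show m + 2 - 1 = m + 1 by omega, show m + 2 - 2 = m by omega]
      push_cast [Nat.cast_sub (show 1 ≤ 2 ^ (m + 2) from Nat.one_le_two_pow)]
      ring
    rw [h6] at h5'
    push_cast at h5'
    exact absurd h (not_le.2 h5')

/-- the torus does not contain `H` -/
theorem Dt'.rel_ne_one (D : Dt' F n q a t π P K B H z) : (Cz z).relIndex H ≠ 1 := fun h =>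
  D.nn (nil_of_le (D.hCz D.n_eq).1 h)

theorem relIndex_dvd {Y : Type*} [Group Y] (C H : Subgroup Y) : C.relIndex H ∣ Nat.card H :=
  (C.subgroupOf H).index_dvd_card

/-- the case `n = 4` -/
theorem Dt'.four (D : Dt' F n q a t π P K B H z) (h4 : n = 4) : False := by
  obtain ⟨s, k, hs, hs2, hsπ, hrel, hk, ha⟩ := D.perm
  have hn := D.n_eq
  rw [h4] at hn
  rcases ha with ha | ⟨ha3, -, hsa⟩
  · subst ha
    rw [one_mul] at hn
    rw [Nat.factorial_one, Nat.dvd_one] at hk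
    rw [hk, mul_one, pow_one, ← hn] at hrel
    have h1 : Nat.Coprime ((Cz z).relIndex H) 4 := by
      have h2 : Odd ((Cz z).relIndex H) := D.odd.of_dvd_nat (relIndex_dvd _ _)
      rw [Nat.coprime_comm, show (4 : ℕ) = 2 ^ 2 by norm_num]
      exact Nat.Coprime.pow_left 2 (Nat.coprime_two_left.2 h2)
    exact D.rel_ne_one (Nat.eq_one_of_dvd_coprimes h1 dvd_rfl hrel)
  · have h1 : a ∣ 4 := ⟨_, hn⟩
    have h2 : a = 4 := by
      have h3 := Nat.le_of_dvd (by norm_num) h1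
      interval_cases a <;> omega
    rw [h2, show (4 : ℕ) = 2 ^ 2 by norm_num] at hsa
    exact hs2 ((Nat.prime_dvd_prime_iff_eq hs Nat.prime_two).1 (hs.dvd_of_dvd_pow hsa))

theorem card_PSU_three_four {F : Type*} [Field F] [Fintype F] (hF : Fintype.card F = 4 ^ 2) :
    Nat.card (PSU 3 F 4) = 832 * 75 := by
  have h := Cfsg.Agent.S0280.result hF 3 (by norm_num)
  have h1 : Nat.gcd 3 (4 + 1) = 1 := by decide
  have h2 : (∏ i ∈ Finset.range 3, (if Even i then 4 ^ (i + 1) + 1 else 4 ^ (i + 1) - 1)) = 4875 := by decide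
  rw [h1, h2] at h
  omega

/-- the order of `GU_3(q)`: the `3`-part -/
theorem no_three_part {F : Type} [Field F] [Fintype F] {q : ℕ} {π : Set ℕ} (hF : Fintype.card F = q ^ 2)
    {H : Subgroup (GU 3 F q)} (hH : IsPiHall π H) (h3 : 3 ∈ π) (hd : Nat.card H ∣ (q ^ 3 + 1) * 3)
    (hq : q = 5 ∨ q = 8) : False := by
  have h1 := S0277.result hF 3
  have hfinG : Finite (GU 3 F q) := LieClassical.GUOrder.finite_GU 3
  have h2 := H.card_mul_index
  rw [h1] at h2
  have hco : ∀ k : ℕ, Nat.Coprime (3 ^ k) H.index := fun k =>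
    Nat.Coprime.pow_left k ((Nat.prime_three.coprime_iff_not_dvd).2 (hH.2 3 Nat.prime_three h3))
  rcases hq with rfl | rfl
  · have h4 : (3 : ℕ) ^ 4 ∣ Nat.card H * H.index := by
      rw [h2]
      decide
    have h5 := ((hco 4).dvd_of_dvd_mul_right h4).trans hd
    revert h5
    decide
  · have h4 : (3 : ℕ) ^ 7 ∣ Nat.card H * H.index := by
      rw [h2]
      decide
    have h5 := ((hco 7).dvd_of_dvd_mul_right h4).trans hd
    revert h5
    decide

end Cfsg.Agent.H715.DPU
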