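import Cfsg.Agent.H715.DPU.Def
import Cfsg.Agent.H462.DPK.K
import Cfsg.Agent.CpAutU.Fixed
import Cfsg.Agent.H715.PDU.Bound
import Cfsg.Agent.H382.FieldAction

/-!
# S4247, row PSU: the count (helper715)
-/

set_option autoImplicit false

namespace Cfsg.Agent.H715.DPU

open Subgroup Cfsg Matrix Cfsg.Agent.H988.CPi Cfsg.Agent.H571.RV Cfsg.Agent.H817.DPi Cfsg.Agent.H380.RV
  Cfsg.Agent.H553.RV Cfsg.Agent.LieClassical.HermBasic
open Cfsg.Agent.ClassicalGeometry.PSUAutBasic (pr pr_surjective)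
open Cfsg.Agent.ClassicalGeometry.PSUAutCount (gm toAut gm_mul gm_inj sc gm_sc_mul toAut_sc_mul eq_of_toAut_eq)
open Cfsg.Agent.CpAutU.Desc (toAut_mul toAut_one mapGU_one)

universe u

/-- `|S : B ∩ S| ≤ |P| |K|` -/
theorem index_le_mul {π : Set ℕ} {S : Type u} [Group S] [Finite S] [IsSimpleGroup S] (hna : ¬ IsMulCommutative S)
    {P : Subgroup S} {K B : Subgroup (MulAut S)} (h : Cfg π P K B) :
    B.comap MulAut.conj ≠ ⊤ ∧ (B.comap MulAut.conj).index ≤ Nat.card P * Nat.card K := by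
  have hinj := Cfsg.Agent.H462.DPK.conj_injective hna
  have hdvd : ∀ X : Subgroup (MulAut S), Nat.card (X.comap MulAut.conj) ∣ Nat.card X := fun X => by
    rw [← Subgroup.card_map_of_injective hinj]
    exact Subgroup.card_dvd_of_le (Subgroup.map_comap_le _ _)
  constructor
  · intro htop
    have h1 := hdvd B
    rw [htop, Subgroup.card_top] at h1
    have h2 : Nat.card P ≠ 1 := by
      intro h2
      apply h.nnil
      rw [Subgroup.card_eq_one] at h2
      subst h2
      infer_instance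
    obtain ⟨p, hp, hpd⟩ := Nat.exists_prime_and_dvd h2
    exact h.piB p hp (h.hall.1 p hp hpd) ((hpd.trans P.card_subgroup_dvd_card).trans h1)
  · have hex : ∀ s : S, ∃ x ∈ P, ∃ k ∈ K, ∃ b ∈ B, MulAut.conj s = MulAut.conj x * k * b := fun s =>
      h.fac _ (Subgroup.mem_sup_right ⟨s, rfl⟩)
    choose x hx k hk b hb hs using hex
    rw [← Nat.card_prod]
    let φ : S ⧸ B.comap MulAut.conj → P × K := fun c => (⟨x c.out, hx _⟩, ⟨k c.out, hk _⟩)
    refine Nat.card_le_card_of_injective φ ?_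
    intro c d hcd
    have h2 : x c.out = x d.out := congrArg (fun y : P × K => (y.1 : S)) hcd
    have h3 : k c.out = k d.out := congrArg (fun y : P × K => (y.2 : MulAut S)) hcd
    rw [← c.out_eq', ← d.out_eq']
    refine QuotientGroup.eq.2 ?_
    rw [Subgroup.mem_comap, map_mul, map_inv, hs c.out, hs d.out, h2, h3]
    have h4 : (MulAut.conj (x d.out) * k d.out * b c.out)⁻¹ * (MulAut.conj (x d.out) * k d.out * b d.out) =
        (b c.out)⁻¹ * b d.out := by group
    rw [h4]
    exact B.mul_mem (B.inv_mem (hb _)) (hb _)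

/-- `P` and `K` meet trivially -/
theorem eq_one_of_conj_mem {π : Set ℕ} {S : Type u} [Group S] [Finite S] [IsSimpleGroup S] (hna : ¬ IsMulCommutative S)
    {P : Subgroup S} {K B : Subgroup (MulAut S)} (h : Cfg π P K B) {x : S} (hx : x ∈ P) (hk : MulAut.conj x ∈ K) :
    x = 1 := by
  have hinj := Cfsg.Agent.H462.DPK.conj_injective hna
  by_contra hcon
  have h1 : orderOf x ≠ 1 := fun h0 => hcon (orderOf_eq_one_iff.1 h0)
  obtain ⟨r, hr, hrd⟩ := Nat.exists_prime_and_dvd h1
  have h2 : r ∣ Nat.card P := hrd.trans (by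
    have := orderOf_dvd_natCard (⟨x, hx⟩ : P)
    rwa [Subgroup.orderOf_mk] at this)
  have h3 : r ∣ Nat.card K := hrd.trans (by
    have := orderOf_dvd_natCard (⟨MulAut.conj x, hk⟩ : K)
    rwa [Subgroup.orderOf_mk, orderOf_injective _ hinj] at this)
  exact h.piK r hr (h.hall.1 r hr h2) h3

variable {F : Type} [Field F] [Fintype F] {n q : ℕ}

omit [Fintype F] in
theorem toAut_mul_one (A B : GU n F q) : toAut A 1 * toAut B 1 = toAut (A * B) 1 := by
  rw [toAut_mul, mapGU_one, mul_one]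

omit [Fintype F] in
theorem toAut_jU (s : SU n F q) : toAut (jU n F q s) 1 = MulAut.conj (pr n F q s) :=
  Cfsg.Agent.KFacts.Unit.toAut_eq_conj (jU n F q s) one_ne_zero (fun v => by rw [one_smul]; rfl)

omit [Fintype F] in
/-- the scalars -/
theorem card_sc (hn : 1 ≤ n) :
    ∃ f : {c : F // c * c ^ q = 1} → GU n F q, Function.Injective f ∧ ∀ c, toAut (f c) 1 = 1 := by
  refine ⟨fun c => sc n c, ?_, fun c => ?_⟩
  · intro c c' h
    have h3 := congrArg gm h
    have h4 := congrFun (congrFun h3 ⟨0, by omega⟩) ⟨0, by omega⟩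
    change Matrix.diagonal (fun _ => c.1) _ _ = Matrix.diagonal (fun _ => c'.1) _ _ at h4
    rw [Matrix.diagonal_apply_eq, Matrix.diagonal_apply_eq] at h4
    exact Subtype.ext h4
  · have h1 := toAut_sc_mul (n := n) c 1 1
    rw [mul_one] at h1
    rw [h1, toAut_one]

/-- the involution in `Aut F` -/
theorem eq_conj_of_sq (hF : Fintype.card F = q ^ 2) {τ : F ≃+* F} (h1 : τ ≠ 1) (h2 : τ * τ = 1) : ∀ x, τ x = x ^ q := by
  classical
  obtain ⟨p, f, hp, hch, hq, hf⟩ := exists_prime_pow hF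
  have := Fact.mk hp
  have hcard : Nat.card F = p ^ (2 * f) := by rw [Nat.card_eq_fintype_card, hF, hq, ← pow_mul, mul_comm]
  have hcyc := (Cfsg.Agent.H382.FieldAction.card_ringAut_dvd F hcard).2
  have hfin : Finite (F ≃+* F) :=
    Finite.of_injective (fun α : F ≃+* F => (α : F → F)) (fun α β h => RingEquiv.ext fun x => congrFun h x)
  letI := Fintype.ofFinite (F ≃+* F)
  have hle := IsCyclic.card_pow_eq_one_le (α := F ≃+* F) (n := 2) (by norm_num)
  have hc : conj hF ≠ 1 := by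
    intro h
    obtain ⟨c, hc⟩ : ∃ c : F, c ^ q ≠ c := by
      by_contra hcon
      push Not at hcon
      have h3 : Nat.card F ≤ p ^ f := by
        have h4 := Cfsg.Agent.H382.FieldAction.card_le_of_pow_eq F hp.one_lt (by omega : 0 < f) Set.univ
          (fun x _ => by rw [← hq]; exact hcon x)
        rwa [Nat.card_univ] at h4
      rw [hcard] at h3
      have h5 : 2 * f ≤ f := (Nat.pow_le_pow_iff_right hp.one_lt).1 h3
      omega
    apply hc
    have h6 := congrArg (fun σ : F ≃+* F => σ c) h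
    exact h6
  have hc2 : conj hF * conj hF = 1 := by
    ext x
    exact pow_q_pow_q hF x
  by_contra hcon
  have hne : τ ≠ conj hF := by
    rintro rfl
    exact hcon fun x => rfl
  have h3 : ({1, τ, conj hF} : Finset (F ≃+* F)) ⊆ Finset.univ.filter fun a => a ^ 2 = 1 := by
    intro a ha
    rw [Finset.mem_filter]
    refine ⟨Finset.mem_univ _, ?_⟩
    rw [Finset.mem_insert, Finset.mem_insert, Finset.mem_singleton] at ha
    rcases ha with rfl | rfl | rfl
    · exact one_pow 2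
    · rw [pow_two, h2]
    · rw [pow_two, hc2]
  have h4 := Finset.card_le_card h3
  rw [Finset.card_insert_of_notMem (by
    rw [Finset.mem_insert, Finset.mem_singleton]
    rintro (h | h)
    · exact h1 h.symm
    · exact hc h.symm), Finset.card_insert_of_notMem (by rw [Finset.mem_singleton]; exact hne), Finset.card_singleton] at h4
  omega

/-- **The count.** -/
theorem index_le {a t p f : ℕ} {π : Set ℕ} (hF : Fintype.card F = q ^ 2) (hn : 3 ≤ n)
    (h32 : ¬ (n = 3 ∧ q = 2)) (hp : p.Prime) (hf : 1 ≤ f) (hq : q = p ^ f)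
    {P : Subgroup (PSU n F q)} {K B : Subgroup (MulAut (PSU n F q))} (hc : Cfg π P K B)
    {H : Subgroup (GU n F q)} (hU : Up π P H) {z : Fin a → GU n F q}
    (hE : ∀ (A : GU n F q) (τ : F ≃+* F), toAut A τ ∈ K → (τ = 1 → A ∈ Cz z) ∧ ((∀ x, τ x = x ^ q) → Even (eU q t))) :
    B.comap MulAut.conj ≠ ⊤ ∧ ∃ κ : ℕ, κ ∣ 2 * f ∧ (Odd (eU q t) → Odd κ) ∧
      (∃ K0 : Subgroup (MulAut (PSU n F q)), K0 ≤ K ∧ Nat.card K = κ * Nat.card K0 ∧
        ∀ k ∈ K0, ∃ A : GU n F q, k = toAut A 1) ∧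
      (B.comap MulAut.conj).index * (q + 1) ≤ κ * (Nat.card (Cz z) * (Cz z).relIndex H) := by
  classical
  have hs := Cfsg.Agent.S0283.result hF n hn h32
  have hna : ¬ IsMulCommutative (PSU n F q) := Cfsg.Agent.CpAut.Fix.not_comm_quot (H := SU n F q)
  have hfinP : Finite (PSU n F q) := inferInstance
  have hfinG : Finite (GU n F q) := LieClassical.GUOrder.finite_GU n
  have hfinM : Finite (MulAut (PSU n F q)) := inferInstance
  obtain ⟨hBt, hidx⟩ := index_le_mul hna hc
  refine ⟨hBt, ?_⟩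
  obtain ⟨φ, hφ⟩ := Cfsg.Agent.KFacts.Unit.exists_fieldHom (F := F) (q := q) (n := n) hF hn h32
  have hfin : Finite (F ≃+* F) :=
    Finite.of_injective (fun α : F ≃+* F => (α : F → F)) (fun α β h => RingEquiv.ext fun x => congrFun h x)
  have := Fact.mk hp
  have hcR : Nat.card (F ≃+* F) = 2 * f :=
    Lib.FieldAutCard.card_ringAut (p := p) (by omega) (by rw [hF, hq, ← pow_mul, mul_comm])
  let ψ : K →* (F ≃+* F) := φ.comp K.subtype
  refine ⟨Nat.card ψ.range, ?_, ?_, ⟨ψ.ker.map K.subtype, ?_, ?_, ?_⟩, ?_⟩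
  · rw [← hcR]
    exact Subgroup.card_subgroup_dvd_card _
  · intro hodd
    by_contra heven
    rw [Nat.not_odd_iff_even, even_iff_two_dvd] at heven
    obtain ⟨⟨τ, hτ⟩, hτo⟩ := exists_prime_orderOf_dvd_card' 2 heven
    rw [Subgroup.orderOf_mk] at hτo
    obtain ⟨⟨k, hk⟩, hkτ⟩ := hτ
    obtain ⟨A, ρ, hA⟩ := Cfsg.Agent.ClassicalGeometry.PSUAutMain.exists_toAut (F := F) (q := q) (n := n) hF hn h32 k
    have h1 : φ k = τ := hkτ
    rw [hA, hφ] at h1
    have h2 : τ ≠ 1 := by
      rintro rfl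
      rw [orderOf_one] at hτo
      omega
    have h3 : τ * τ = 1 := by rw [← pow_two, ← hτo, pow_orderOf_eq_one]
    have h4 := eq_conj_of_sq hF h2 h3
    have h5 := (hE A ρ (by rw [← hA]; exact hk)).2 (by rw [h1]; exact h4)
    exact (Nat.not_odd_iff_even.2 h5) hodd
  · rintro _ ⟨k, -, rfl⟩
    exact k.2
  · rw [Subgroup.card_map_of_injective K.subtype_injective]
    have h1 := ψ.ker.card_mul_index
    rw [Subgroup.index_ker] at h1
    rw [← h1, mul_comm]
  · rintro _ ⟨k, hk, rfl⟩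
    obtain ⟨A, ρ, hA⟩ := Cfsg.Agent.ClassicalGeometry.PSUAutMain.exists_toAut (F := F) (q := q) (n := n) hF hn h32 (k : MulAut (PSU n F q))
    refine ⟨A, ?_⟩
    have h1 : φ k = 1 := hk
    rw [hA, hφ] at h1
    rw [Subgroup.coe_subtype, hA, h1]
  · -- the injection
    have hK0 : ∀ k : ψ.ker, ∃ A : GU n F q, ((k : K) : MulAut (PSU n F q)) = toAut A 1 := by
      intro k
      obtain ⟨A, ρ, hA⟩ := Cfsg.Agent.ClassicalGeometry.PSUAutMain.exists_toAut (F := F) (q := q) (n := n) hF hn h32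
        ((k : K) : MulAut (PSU n F q))
      refine ⟨A, ?_⟩
      have h1 : φ ((k : K) : MulAut (PSU n F q)) = 1 := k.2
      rw [hA, hφ] at h1
      rw [hA, h1]
    choose A hA using hK0
    have hP0 : ∀ x : P, ∃ g : SU n F q, jU n F q g ∈ H ∧ pr n F q g = x := fun x => (hU.mem x).1 x.2
    choose g hg hgx using hP0
    obtain ⟨sc', hsc, hsc1⟩ := card_sc (F := F) (q := q) (n := n) (by omega)
    let h : P × ψ.ker × {c : F // c * c ^ q = 1} → GU n F q := fun y => jU n F q (g y.1) * A y.2.1 * sc' y.2.2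
    have hh : ∀ y, toAut (h y) 1 = MulAut.conj (y.1 : PSU n F q) * ((y.2.1 : K) : MulAut (PSU n F q)) := by
      intro y
      show toAut (jU n F q (g y.1) * A y.2.1 * sc' y.2.2) 1 = _
      rw [← toAut_mul_one, ← toAut_mul_one, hsc1, mul_one, toAut_jU, hgx, ← hA]
    have hinj : Function.Injective h := by
      intro y y' hyy
      have h1 := congrArg (fun X : GU n F q => toAut X 1) hyy
      beta_reduce at h1
      rw [hh, hh] at h1
      have h2 : MulAut.conj ((y'.1 : PSU n F q)⁻¹ * y.1) =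
          ((y'.2.1 : K) : MulAut (PSU n F q)) * ((y.2.1 : K) : MulAut (PSU n F q))⁻¹ := by
        rw [map_mul, map_inv, inv_mul_eq_iff_eq_mul, ← mul_assoc, ← h1, mul_inv_cancel_right]
      have h3 : (y'.1 : PSU n F q)⁻¹ * y.1 = 1 := by
        refine eq_one_of_conj_mem hna hc (P.mul_mem (P.inv_mem y'.1.2) y.1.2) ?_
        rw [h2]
        exact K.mul_mem (y'.2.1 : K).2 (K.inv_mem (y.2.1 : K).2)
      have h4 : y.1 = y'.1 := Subtype.ext (inv_mul_eq_one.1 h3).symm
      rw [h4] at h1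
      have h5 : y.2.1 = y'.2.1 := Subtype.ext (Subtype.ext (mul_left_cancel h1))
      have h6 : sc' y.2.2 = sc' y'.2.2 := by
        have h7 : jU n F q (g y.1) * A y.2.1 * sc' y.2.2 = jU n F q (g y'.1) * A y'.2.1 * sc' y'.2.2 := hyy
        rw [h4, h5] at h7
        exact mul_left_cancel h7
      exact Prod.ext h4 (Prod.ext h5 (hsc h6))
    have hmem : ∀ y, (jU n F q (g y.1))⁻¹ * h y ∈ Cz z := by
      intro y
      have h1 : (jU n F q (g y.1))⁻¹ * h y = A y.2.1 * sc' y.2.2 := by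
        show (jU n F q (g y.1))⁻¹ * (jU n F q (g y.1) * A y.2.1 * sc' y.2.2) = _
        group
      rw [h1]
      refine (hE _ 1 ?_).1 rfl
      rw [← toAut_mul_one, hsc1, mul_one, ← hA]
      exact (y.2.1 : K).2
    let m : P × ψ.ker × {c : F // c * c ^ q = 1} → (H ⧸ (Cz z).subgroupOf H) := fun y =>
      QuotientGroup.mk (⟨jU n F q (g y.1), hg y.1⟩ : H)
    have hmem2 : ∀ y, ((m y).out : GU n F q)⁻¹ * h y ∈ Cz z := by
      intro y
      have h1 : (QuotientGroup.mk ((m y).out) : H ⧸ (Cz z).subgroupOf H) =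
          QuotientGroup.mk (⟨jU n F q (g y.1), hg y.1⟩ : H) := QuotientGroup.out_eq' _
      rw [QuotientGroup.eq] at h1
      have h2 : ((m y).out : GU n F q)⁻¹ * jU n F q (g y.1) ∈ Cz z := h1
      have h3 := (Cz z).mul_mem h2 (hmem y)
      have h4 : ((m y).out : GU n F q)⁻¹ * jU n F q (g y.1) * ((jU n F q (g y.1))⁻¹ * h y) =
          ((m y).out : GU n F q)⁻¹ * h y := by group
      rwa [h4] at h3
    have hcount : Nat.card (P × ψ.ker × {c : F // c * c ^ q = 1}) ≤ Nat.card ((H ⧸ (Cz z).subgroupOf H) × Cz z) := by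
      refine Nat.card_le_card_of_injective (fun y => (m y, ⟨((m y).out : GU n F q)⁻¹ * h y, hmem2 y⟩)) ?_
      intro y y' hyy
      have h1 : m y = m y' := congrArg Prod.fst hyy
      have h2 : ((m y).out : GU n F q)⁻¹ * h y = ((m y').out : GU n F q)⁻¹ * h y' :=
        congrArg (fun w => ((w.2 : Cz z) : GU n F q)) hyy
      rw [h1] at h2
      exact hinj (mul_left_cancel h2)
    rw [Nat.card_prod, Nat.card_prod, Nat.card_prod, card_norm_eq_one hF] at hcount
    have h1 := ψ.ker.card_mul_index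
    rw [Subgroup.index_ker] at h1
    have h2 : Nat.card (H ⧸ (Cz z).subgroupOf H) = (Cz z).relIndex H := rfl
    rw [h2] at hcount
    calc (B.comap MulAut.conj).index * (q + 1) ≤ Nat.card P * Nat.card K * (q + 1) := Nat.mul_le_mul_right _ hidx
      _ = Nat.card ψ.range * (Nat.card P * (Nat.card ψ.ker * (q + 1))) := by rw [← h1]; ring
      _ ≤ Nat.card ψ.range * ((Cz z).relIndex H * Nat.card (Cz z)) := Nat.mul_le_mul_left _ hcount
      _ = _ := by ring

end Cfsg.Agent.H715.DPU
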