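import Cfsg.Agent.H715.DPU.RowU
import Cfsg.Agent.S4350

/-!
# S4247, row PSU (helper715)
-/

set_option autoImplicit false

namespace Cfsg.Agent.H715.DPU

open Subgroup Cfsg Matrix Module Cfsg.Agent.H988.CPi Cfsg.Agent.H571.RV Cfsg.Agent.H817.DPi

universe u

/-- **Row PSU of S4247** -/
theorem row_psu {π : Set ℕ} {S : Type u} [Group S] [Finite S] [IsSimpleGroup S] {p : ℕ} (hp : p.Prime)
    (hpπ : p ∉ π) (h : IsPSUChar p S) : Row π S :=
  row_psu_conj (fun h2 _ _ _ H K hH hK => Cfsg.Agent.S4350.result π h2 H K hH hK) hp hpπ h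

end Cfsg.Agent.H715.DPU
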