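import Cfsg.Agent.H715.DPU.RowOf
import Cfsg.Agent.H735.DPU.Cent
import Cfsg.Agent.H161.DPi.ExclCore

/-!
# S4247, row PSU, from the conjugacy of odd Hall subgroups and statement E (helper715)
-/

set_option autoImplicit false

namespace Cfsg.Agent.H715.DPU

open Subgroup Cfsg Matrix Module Cfsg.Agent.H988.CPi Cfsg.Agent.H571.RV Cfsg.Agent.H817.DPi

universe u

theorem stF : StF := fun hF _ _ hz h0 => Cfsg.Agent.H735.DPU.cent_Cz hF hz h0

theorem ex_of_conj {π : Set ℕ} (hO : OddConj π) : EX π := fun X _ _ _ _ h2 _ hp hpπ hX h =>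
  Cfsg.Agent.H161.DPi.Excl.excl_of_conj h2 (fun H K hH hK => hO X H K hH hK) hp hpπ hX h

theorem row_psu_of_E {π : Set ℕ} (hO : OddConj π) (hStE : StE π) {S : Type u} [Group S] {p : ℕ} (hp : p.Prime)
    (hpπ : p ∉ π) (h : IsPSUChar p S) : Row π S :=
  row_psu_of hO (ex_of_conj hO) hStE stF hp hpπ h

end Cfsg.Agent.H715.DPU
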