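import Cfsg.Agent.H715.DPU.Three
import Cfsg.Agent.H22.DPU.PartB
import Cfsg.Agent.H38.DPU.Fr
import Cfsg.Agent.H38.NP.Main
import Cfsg.Agent.H462.DPU.UpA
import Cfsg.Agent.H640.DPU.Congr
import Cfsg.Agent.H680.DPU.NoSF

/-!
# S4247, row PSU: the row from its parts (helper715)
-/

set_option autoImplicit false

namespace Cfsg.Agent.H715.DPU

open Subgroup Cfsg Matrix Module Cfsg.Agent.H988.CPi Cfsg.Agent.H571.RV Cfsg.Agent.H817.DPi Cfsg.Agent.H380.RV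
  Cfsg.Agent.H553.RV
open Cfsg.Agent.ClassicalGeometry.PSUAutBasic (pr)
open Cfsg.Agent.ClassicalGeometry.PSUAutCount (gm toAut)

universe u

open scoped Pointwise

/-- statement E -/
def StE (π : Set ℕ) : Prop :=
  ∀ {F : Type} [Field F] [Fintype F] {n q a t : ℕ} (_ : Fintype.card F = q ^ 2) (_ : 3 ≤ n)
    (_ : ¬ (n = 3 ∧ q = 2)) {P : Subgroup (PSU n F q)} {K : Subgroup (MulAut (PSU n F q))}
    {H : Subgroup (GU n F q)} (_ : Up π P H) (_ : ∀ k ∈ K, ∀ x ∈ P, k x = x) {z : Fin a → GU n F q}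
    (_ : Fr q H t a z) (_ : n = 3 → eU q t = 1 → 5 ≤ t) {A : GU n F q} {τ : F ≃+* F} (_ : toAut A τ ∈ K),
    (∀ i, Sv A τ (Rg (rU n F q) (z i))) ∧ (τ = 1 → A ∈ Cz z) ∧ ((∀ x, τ x = x ^ q) → Even (eU q t))

/-- statement F -/
def StF : Prop :=
  ∀ {F : Type} [Field F] [Fintype F] {n q a t : ℕ} (_ : Fintype.card F = q ^ 2)
    {H : Subgroup (GU n F q)} {z : Fin a → GU n F q} (_ : Fr q H t a z) (_ : n = a * eU q t),
    (∀ x ∈ Cz z, ∀ y ∈ Cz z, x * y = y * x) ∧ Nat.card (Cz z) ∣ tU q (eU q t) ^ a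

/-- conjugacy of odd Hall subgroups (S4350) for groups in `Type` -/
def OddConj (π : Set ℕ) : Prop :=
  ∀ (G : Type) [Group G] [Finite G] (H K : Subgroup G), IsPiHall π H → IsPiHall π K → ∃ g : G, K = MulAut.conj g • H

theorem nilGU (π : Set ℕ) : NilGU π := fun _ _ _ _ _ hF h2 hp h => Cfsg.Agent.H38.NP.nil_gu hF h2 hp h

theorem row_main {π : Set ℕ} (hO : OddConj π) (hE : EX π) (hStE : StE π) (hStF : StF)
    {F : Type} [Field F] [Fintype F] {n q p : ℕ} (hF : Fintype.card F = q ^ 2) (hn : 3 ≤ n)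
    (h32 : ¬ (n = 3 ∧ q = 2)) (hp : p.Prime) [CharP F p] (hpπ : p ∉ π) : Row π (PSU n F q) := by
  intro P K B hc hI
  exfalso
  have h2 := hc.two
  have hpn : ∀ r ∈ π, r.Prime → (r : F) ≠ 0 := Cfsg.Agent.H380.RV.char_ne (p := p) hpπ
  have hfS : Finite (SU n F q) := inferInstance
  have hfP : Finite (PSU n F q) := Quotient.finite _
  obtain ⟨H, hU⟩ := Cfsg.Agent.H462.DPU.exists_up_of (fun H K hH hK' => hO (PSU n F q) H K hH hK') hc.hall
  have hnn : ¬ Group.IsNilpotent H := fun h => hc.nnil (hU.nil h)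
  obtain ⟨t, a, z, hz, h5, -⟩ := Cfsg.Agent.H38.DPU.exists_Fr hF hn h2 hpn hU.hall hnn
  refine Dt'.false (F := F) (n := n) (q := q) (a := a) (t := t) (π := π) (P := P) (K := K) (B := B) (H := H) (z := z)
    { hF := hF, hn := hn, h32 := h32, hpn := hpn, hc := hc, hU := hU, hz := hz, h5 := h5,
      hK := fun A τ hA => hStE hF hn h32 hU hc.fix hz h5 hA
      hb := fun W hW0 hW1 hnd hH hK =>
        Cfsg.Agent.H22.DPU.part_b hF hn h32 hp hpπ hE (nilGU π) hc hI hU hW0 hW1 hnd hH hK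
      hCz := fun h0 => hStF hF hz h0 } ?_
  intro h4 B' hB'
  exact Cfsg.Agent.H680.DPU.no_75 h4 hB'

theorem row_psu_of {π : Set ℕ} (hO : OddConj π) (hE : EX π) (hStE : StE π) (hStF : StF)
    {S : Type u} [Group S] {p : ℕ} (hp : p.Prime) (hpπ : p ∉ π) (h : IsPSUChar p S) : Row π S := by
  obtain ⟨F, _, _, _, n, q, hF, hn, h32, ⟨e⟩⟩ := h
  exact Cfsg.Agent.H640.DPU.row_congr e (row_main hO hE hStE hStF hF hn h32 hp hpπ)

end Cfsg.Agent.H715.DPU
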