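import Cfsg.Agent.H715.DPU.RowO
import Cfsg.Agent.H199.DPU.Kst

/-!
# S4247, row PSU, from the conjugacy of odd Hall subgroups (helper715)
-/

set_option autoImplicit false

namespace Cfsg.Agent.H715.DPU

open Subgroup Cfsg Matrix Module Cfsg.Agent.H988.CPi Cfsg.Agent.H571.RV Cfsg.Agent.H817.DPi

universe u

theorem stE (π : Set ℕ) : StE π := fun hF hn h32 _ _ _ hU hfix _ hz h5 _ _ hA => by
  obtain ⟨h1, -, h2, h3⟩ := Cfsg.Agent.H199.DPU.K_st hF hn h32 hU hfix hz h5 hA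
  exact ⟨h1, h2, h3⟩

/-- **Row PSU of S4247** modulo S4350 -/
theorem row_psu_conj {π : Set ℕ} (hO : 2 ∉ π → OddConj π) {S : Type u} [Group S] {p : ℕ} (hp : p.Prime)
    (hpπ : p ∉ π) (h : IsPSUChar p S) : Row π S := fun P K B hc hI =>
  row_psu_of_E (hO hc.two) (stE π) hp hpπ h P K B hc hI

end Cfsg.Agent.H715.DPU
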