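import Cfsg.Agent.H715.DPU.Asm

/-!
# S4247, row PSU: dimension three (helper715)
-/

set_option autoImplicit false

namespace Cfsg.Agent.H715.DPU

open Subgroup Cfsg Matrix Module Cfsg.Agent.H988.CPi Cfsg.Agent.H571.RV Cfsg.Agent.H817.DPi Cfsg.Agent.H380.RV
  Cfsg.Agent.H553.RV Cfsg.Agent.LieClassical.HermBasic
open Cfsg.Agent.ClassicalGeometry.PSUAutBasic (pr pr_surjective)
open Cfsg.Agent.ClassicalGeometry.PSUAutCount (gm toAut gm_mul gm_inj herm_gm)
open Cfsg.Agent.CpAutU.Desc (toAut_one)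

theorem Up.card_dvd {F : Type} [Field F] [Fintype F] {n q : ℕ} {π : Set ℕ} {P : Subgroup (PSU n F q)}
    {H : Subgroup (GU n F q)} (hU : Up π P H) : Nat.card P ∣ Nat.card H := by
  have hfinG : Finite (GU n F q) := LieClassical.GUOrder.finite_GU n
  have h1 : P = (H.comap (jU n F q)).map (pr n F q) := by
    ext x
    rw [hU.mem]
    constructor
    · rintro ⟨g, hg, rfl⟩
      exact ⟨g, hg, rfl⟩
    · rintro ⟨g, hg, rfl⟩
      exact ⟨g, hg, rfl⟩
  have hj : Function.Injective (jU n F q) := by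
    intro a b h
    exact Subtype.ext (Subtype.ext (congrArg (fun x : GU n F q => x.1.1) h))
  rw [h1]
  refine (Subgroup.card_map_dvd (H := H.comap (jU n F q)) (pr n F q)).trans ?_
  rw [← Subgroup.card_map_of_injective hj]
  exact Subgroup.card_dvd_of_le (Subgroup.map_comap_le _ _)

variable {F : Type} [Field F] [Fintype F] {n q a t : ℕ} {π : Set ℕ} {P : Subgroup (PSU n F q)}
    {K B : Subgroup (MulAut (PSU n F q))} {H : Subgroup (GU n F q)} {z : Fin a → GU n F q}

omit [Fintype F] in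
theorem toAut_pow' (A : GU n F q) (j : ℕ) : toAut (A ^ j) 1 = toAut A 1 ^ j := by
  induction j with
  | zero => rw [pow_zero, pow_zero, toAut_one]
  | succ j ih => rw [pow_succ, pow_succ, ← ih, toAut_mul_one]

/-- `K` is trivial if the torus is a `π`-group and the field part is trivial -/
theorem Dt'.K_trivial (D : Dt' F n q a t π P K B H z) {K0 : Subgroup (MulAut (PSU n F q))} (hK0 : K0 ≤ K)
    (h1 : ∀ k ∈ K0, ∃ A : GU n F q, k = toAut A 1) (hco : Nat.Coprime (Nat.card (Cz z)) (Nat.card K)) :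
    Nat.card K0 = 1 := by
  have hfinG : Finite (GU n F q) := LieClassical.GUOrder.finite_GU n
  rw [Subgroup.card_eq_one, Subgroup.eq_bot_iff_forall]
  intro k hk
  obtain ⟨A, hA⟩ := h1 k hk
  have hAC : A ∈ Cz z := (D.hK A 1 (by rw [← hA]; exact hK0 hk)).2.1 rfl
  have h2 : A ^ Nat.card (Cz z) = 1 := by
    have h3 := pow_card_eq_one' (x := (⟨A, hAC⟩ : Cz z))
    exact congrArg Subtype.val h3
  have h3 : orderOf k ∣ Nat.card (Cz z) := by
    apply orderOf_dvd_of_pow_eq_one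
    rw [hA, ← toAut_pow', h2, toAut_one]
  have h4 : orderOf k ∣ Nat.card K := by
    have h5 := orderOf_dvd_natCard (⟨k, hK0 hk⟩ : K)
    rwa [Subgroup.orderOf_mk] at h5
  exact orderOf_eq_one_iff.1 (Nat.eq_one_of_dvd_coprimes hco h3 h4)

/-- the case `PSU_3(4)` -/
theorem Dt'.four' {P : Subgroup (PSU 3 F 4)} {K B : Subgroup (MulAut (PSU 3 F 4))} {H : Subgroup (GU 3 F 4)}
    {z : Fin a → GU 3 F 4} (D : Dt' F 3 4 a t π P K B H z)
    (h75 : ∀ B' : Subgroup (PSU 3 F 4), Nat.card B' ≠ 832) (h3 : 3 ∈ π) (h5 : 5 ∈ π)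
    (hCz : Nat.card (Cz z) ∣ 5 ^ 3) {k : ℕ} (hrel : (Cz z).relIndex H ∣ 3 ^ k)
    {κ : ℕ} (hκ : κ = 1) {K0 : Subgroup (MulAut (PSU 3 F 4))} (hK0 : K0 ≤ K) (hcK : Nat.card K = κ * Nat.card K0)
    (hA : ∀ k ∈ K0, ∃ A : GU 3 F 4, k = toAut A 1) : False := by
  have hs : IsSimpleGroup (PSU 3 F 4) := Cfsg.Agent.S0283.result D.hF 3 D.hn D.h32
  have hna : ¬ IsMulCommutative (PSU 3 F 4) := Cfsg.Agent.CpAut.Fix.not_comm_quot (H := SU 3 F 4)
  have hfinG : Finite (GU 3 F 4) := LieClassical.GUOrder.finite_GU 3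
  have hcard := card_PSU_three_four D.hF
  -- `K = 1`
  have hcoK : Nat.Coprime (Nat.card (Cz z)) (Nat.card K) := by
    refine Nat.Coprime.coprime_dvd_left hCz (Nat.Coprime.pow_left 3 ?_)
    exact (Nat.prime_five.coprime_iff_not_dvd).2 (D.hc.piK 5 Nat.prime_five h5)
  have hK1 := D.K_trivial hK0 hA hcoK
  rw [hκ, hK1, mul_one] at hcK
  -- `|P|` divides `75`
  have hP1 : Nat.card P ∣ 5 ^ 3 * 3 ^ k :=
    (D.hU.card_dvd.trans (DPU.card_dvd H (Cz z))).trans (mul_dvd_mul hCz hrel)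
  have hP2 : Nat.Coprime (Nat.card P) 832 := by
    refine Nat.Coprime.coprime_dvd_left hP1 (Nat.Coprime.mul_left ?_ (Nat.Coprime.pow_left k (by decide)))
    decide
  have hP3 : Nat.card P ∣ 75 := by
    refine hP2.dvd_of_dvd_mul_left ?_
    rw [← hcard]
    exact P.card_subgroup_dvd_card
  obtain ⟨-, hidx⟩ := index_le_mul hna D.hc
  rw [hcK, mul_one] at hidx
  have hidx' : (B.comap MulAut.conj).index ≤ 75 := hidx.trans (Nat.le_of_dvd (by norm_num) hP3)
  -- `|B'|` divides `832`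
  have hB1 : Nat.card (B.comap MulAut.conj) ∣ Nat.card B := by
    rw [← Subgroup.card_map_of_injective (Cfsg.Agent.H462.DPK.conj_injective hna)]
    exact Subgroup.card_dvd_of_le (Subgroup.map_comap_le _ _)
  have hB2 : Nat.Coprime (Nat.card (B.comap MulAut.conj)) 75 := by
    refine Nat.Coprime.coprime_dvd_left hB1 ?_
    have h1 : Nat.Coprime 3 (Nat.card B) := (Nat.prime_three.coprime_iff_not_dvd).2 (D.hc.piB 3 Nat.prime_three h3)
    have h2 : Nat.Coprime 5 (Nat.card B) := (Nat.prime_five.coprime_iff_not_dvd).2 (D.hc.piB 5 Nat.prime_five h5)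
    rw [Nat.coprime_comm, show (75 : ℕ) = 3 * 5 ^ 2 by norm_num]
    exact Nat.Coprime.mul_left h1 (Nat.Coprime.pow_left 2 h2)
  have hB3 := (B.comap MulAut.conj).card_mul_index
  rw [hcard] at hB3
  have hB4 : Nat.card (B.comap MulAut.conj) ∣ 832 := hB2.dvd_of_dvd_mul_right ⟨_, hB3.symm⟩
  have hB5 : Nat.card (B.comap MulAut.conj) = 832 := by
    refine le_antisymm (Nat.le_of_dvd (by norm_num) hB4) ?_
    by_contra hcon
    push Not at hcon
    have h1 : Nat.card (B.comap MulAut.conj) * (B.comap MulAut.conj).index < 832 * 75 := by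
      have h2 : 0 < (B.comap MulAut.conj).index := Nat.pos_of_ne_zero Subgroup.index_ne_zero_of_finite
      calc _ ≤ Nat.card (B.comap MulAut.conj) * 75 := Nat.mul_le_mul_left _ hidx'
        _ < 832 * 75 := Nat.mul_lt_mul_of_pos_right hcon (by norm_num)
    omega
  exact h75 _ hB5

theorem not_dvd_of_ge {t m : ℕ} (ht : t.Prime) (h5 : 5 ≤ t) (h : t ∣ m) (hm : m = 3 ∨ m = 4 ∨ m = 6 ∨ m = 9) : False := by
  have h1 : t ∣ 36 := by
    rcases hm with rfl | rfl | rfl | rfl
    · exact h.trans (by norm_num)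
    · exact h.trans (by norm_num)
    · exact h.trans (by norm_num)
    · exact h.trans (by norm_num)
  have h2 : t ∣ 6 ^ 2 := h1
  have h3 : t ∣ 2 * 3 := ht.dvd_of_dvd_pow h2
  rcases (ht.dvd_mul).1 h3 with h4 | h4
  · have := Nat.le_of_dvd (by norm_num) h4
    omega
  · have := Nat.le_of_dvd (by norm_num) h4
    omega

/-- the case `n = 3` -/
theorem Dt'.three {P : Subgroup (PSU 3 F q)} {K B : Subgroup (MulAut (PSU 3 F q))} {H : Subgroup (GU 3 F q)}
    {z : Fin a → GU 3 F q} (D : Dt' F 3 q a t π P K B H z)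
    (h75 : Fintype.card F = 4 ^ 2 → ∀ B' : Subgroup (PSU 3 F 4), Nat.card B' ≠ 832) : False := by
  obtain ⟨p, f, hp, hch, hq, hf⟩ := exists_prime_pow D.hF
  have hq2 : 2 ≤ q := two_le D.hF
  obtain ⟨s, k, hs, hs2, hsπ, hrel, hk, ha⟩ := D.perm
  obtain ⟨hBt, κ, hκ, hκo, ⟨K0, hK0, hcK, hA⟩, hle⟩ := index_le D.hF D.hn D.h32 hp hf hq D.hc D.hU (z := z) (t := t)
    (fun A τ hA => (D.hK A τ hA).2)
  obtain ⟨-, hCz⟩ := D.hCz D.n_eq
  have hn := D.n_eq
  have hfinG : Finite (GU 3 F q) := LieClassical.GUOrder.finite_GU 3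
  have hrn := D.rel_ne_one
  have hq' : q ≠ 2 := fun h => D.h32 ⟨rfl, h⟩
  rcases ha with ha | ⟨ha3, hsπ', hsa⟩
  · -- `a = 1`, `d = 3`
    subst ha
    rw [one_mul] at hn
    rw [Nat.factorial_one, Nat.dvd_one] at hk
    rw [hk, mul_one, pow_one, ← hn] at hrel
    have hr3 : (Cz z).relIndex H = 3 := ((Nat.dvd_prime Nat.prime_three).1 hrel).resolve_left hrn
    have h3H : 3 ∣ Nat.card H := by
      have h1 := relIndex_dvd (Cz z) H
      rwa [hr3] at h1
    have h3π : 3 ∈ π := D.hU.hall.1 3 Nat.prime_three h3H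
    have hT : tU q 3 = q ^ 3 + 1 := by rw [tU, if_neg (by decide)]
    rw [← hn, pow_one, hT] at hCz
    have hHd : Nat.card H ∣ (q ^ 3 + 1) * 3 := by
      have h1 := card_dvd H (Cz z)
      rw [hr3] at h1
      exact h1.trans (mul_dvd_mul_right hCz 3)
    have hκ1 : Odd κ := hκo (by rw [← hn]; decide)
    have h58 : ¬ (q = 5 ∨ q = 8) := fun h => no_three_part D.hF D.hU.hall h3π hHd h
    push Not at h58
    have hmin := (Cfsg.Agent.S2148.result q D.hF (by omega) h58.1).1 _ hBt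
    rw [hr3] at hle
    have h1 : (q ^ 3 + 1) * (q + 1) ≤ (q ^ 3 + 1) * (3 * κ) := by
      calc (q ^ 3 + 1) * (q + 1) ≤ (B.comap MulAut.conj).index * (q + 1) := Nat.mul_le_mul_right _ hmin
        _ ≤ κ * (Nat.card (Cz z) * 3) := hle
        _ ≤ κ * ((q ^ 3 + 1) * 3) := Nat.mul_le_mul_left _ (Nat.mul_le_mul_right _ (Nat.le_of_dvd (by omega) hCz))
        _ = _ := by ring
    have h2 : q + 1 ≤ 3 * κ := Nat.le_of_mul_le_mul_left h1 (by omega)
    rcases num31 hp hf hq hκ hκ1 h2 with h | h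
    · exact h58.2 h
    · exact hq' h
  · -- `a = 3`, `d = 1`
    have ha : a = 3 := by
      have h1 : a ∣ 3 := ⟨_, hn⟩
      exact le_antisymm (Nat.le_of_dvd (by norm_num) h1) ha3
    subst ha
    have hd : eU q t = 1 := by omega
    have ht5 := D.h5 rfl hd
    have htq : t ∣ q + 1 := dvd_succ_of_one hd
    have hs3 : s = 3 := (Nat.prime_dvd_prime_iff_eq hs Nat.prime_three).1 hsa
    subst hs3
    rw [hd, one_pow, one_mul] at hrel
    have hT : tU q 1 = q + 1 := by rw [tU, if_neg (by decide), pow_one]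
    rw [hd, hT] at hCz
    have hk1 : k ≤ 1 := by
      by_contra hcon
      have h1 : 3 ^ 2 ∣ Nat.factorial 3 := (pow_dvd_pow 3 (by omega)).trans hk
      revert h1
      decide
    have hrel3 : (Cz z).relIndex H ≤ 3 :=
      (Nat.le_of_dvd (by positivity) hrel).trans (by
        calc 3 ^ k ≤ 3 ^ 1 := Nat.pow_le_pow_right (by norm_num) hk1
          _ = 3 := by norm_num)
    have hκ1 : Odd κ := hκo (by rw [hd]; decide)
    have hq5 : q ≠ 5 := by
      rintro rfl
      exact not_dvd_of_ge D.hz.ht ht5 htq (by decide)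
    have hmin := (Cfsg.Agent.S2148.result q D.hF (by omega) hq5).1 _ hBt
    have h1 : (q ^ 3 + 1) * (q + 1) ≤ κ * ((q + 1) ^ 3 * 3) := by
      calc (q ^ 3 + 1) * (q + 1) ≤ (B.comap MulAut.conj).index * (q + 1) := Nat.mul_le_mul_right _ hmin
        _ ≤ κ * (Nat.card (Cz z) * (Cz z).relIndex H) := hle
        _ ≤ κ * ((q + 1) ^ 3 * 3) := Nat.mul_le_mul_left _ (Nat.mul_le_mul (Nat.le_of_dvd (by positivity) hCz) hrel3)
    rcases num33 hp hf hq hκ hκ1 h1 with h | h | h | h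
    · exact hq' h
    · subst h
      exact not_dvd_of_ge D.hz.ht ht5 htq (by decide)
    · subst h
      have ht : t = 5 := (Nat.prime_dvd_prime_iff_eq D.hz.ht Nat.prime_five).1 htq
      have hf2 : f = 2 := by
        by_contra hne
        have hf3 : f = 1 ∨ 3 ≤ f := by omega
        rcases hf3 with h2 | h2
        · rw [h2, pow_one] at hq
          rw [← hq] at hp
          exact absurd hp (by decide)
        · have h3 : 2 ^ 3 ≤ p ^ f := (Nat.pow_le_pow_left hp.two_le 3).trans (Nat.pow_le_pow_right hp.pos h2)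
          omega
      have hκ2 : κ = 1 := by
        obtain ⟨h2, h3⟩ := kappa_le hf hκ hκ1
        obtain ⟨m, rfl⟩ := hκ1
        omega
      refine D.four' (h75 D.hF) hsπ' ?_ hCz hrel hκ2 hK0 hcK hA
      rw [← ht]
      exact D.hU.hall.1 t D.hz.ht D.hz.dvd
    · subst h
      exact not_dvd_of_ge D.hz.ht ht5 htq (by decide)

/-- **The core.** -/
theorem Dt'.false (D : Dt' F n q a t π P K B H z)
    (h75 : Fintype.card F = 4 ^ 2 → ∀ B' : Subgroup (PSU 3 F 4), Nat.card B' ≠ 832) : False := by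
  have hn := D.hn
  rcases Nat.lt_or_ge n 5 with h | h
  · have h2 : n = 3 ∨ n = 4 := by omega
    rcases h2 with rfl | h2
    · exact D.three h75
    · exact D.four h2
  · exact D.big h

end Cfsg.Agent.H715.DPU
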